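import Cfsg.Agent.Lib.ChevAut.Rank1
import Cfsg.Agent.Lib.Chevalley.SL2Root
import Cfsg.Agent.Lib.Chevalley.CharDiag2
import Cfsg.Agent.Lib.ChevBN.Opp
import Cfsg.Agent.Lib.ChevOrder.Chev

/-!
# Root elements as elements of the group; diagonal automorphisms

`XG r t` is the root element `x_r(t)` as an element of `D.group F`. `dAut χ` is the diagonal automorphism.
-/

set_option autoImplicit false
set_option linter.unusedSectionVars false

namespace Cfsg.Agent.Lib.ChevAut

open Cfsg.Lie Matrix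
open Cfsg.Agent.Lib.Chevalley.SL2Hom (w h Rel)
open Cfsg.Agent.Lib.Chevalley
open Cfsg.Agent.Lib.ChevBN.Elem Cfsg.Agent.Lib.ChevBN.Entries Cfsg.Agent.Lib.ChevBN.Table
open Cfsg.Agent.Lib.ChevBN.Collect Cfsg.Agent.Lib.ChevBN.Rel Cfsg.Agent.Lib.ChevBN.Torus
open Cfsg.Agent.Lib.ChevBN.Monomial Cfsg.Agent.Lib.ChevBN.Pair

noncomputable section

variable {D : ChevalleyDatum} {F : Type*} [Field F]

/-- A normalising element of `GL` gives an automorphism of the group. -/
def conjAut (u : GL D.Idx F) (h₁ : ∀ g ∈ D.group F, u * g * u⁻¹ ∈ D.group F)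
    (h₂ : ∀ g ∈ D.group F, u⁻¹ * g * u ∈ D.group F) : ↥(D.group F) ≃* ↥(D.group F) where
  toFun := fun a => ⟨u * a.1 * u⁻¹, h₁ a.1 a.2⟩
  invFun := fun a => ⟨u⁻¹ * a.1 * u, h₂ a.1 a.2⟩
  left_inv := fun a => by
    apply Subtype.ext
    simp only
    group
  right_inv := fun a => by
    apply Subtype.ext
    simp only
    group
  map_mul' := fun a b => by
    apply Subtype.ext
    simp only [Subgroup.coe_mul]
    group

@[simp] theorem conjAut_coe (u : GL D.Idx F) (h₁ : ∀ g ∈ D.group F, u * g * u⁻¹ ∈ D.group F)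
    (h₂ : ∀ g ∈ D.group F, u⁻¹ * g * u ∈ D.group F) (a : ↥(D.group F)) :
    ((conjAut u h₁ h₂ a : ↥(D.group F)) : GL D.Idx F) = u * a.1 * u⁻¹ := rfl

variable (hA : AddRel D F)

theorem X_mem_group (r : ℕ) (t : F) : X hA r t ∈ D.group F := by
  by_cases hr : r < D.nroots
  · rw [group_eq hA]
    exact X_mem_gen hA (Ψ := {r | r < D.nroots}) hr t
  · have : X hA r t = 1 := by
      apply Units.ext
      rw [coe_X, ChevalleyDatum.x, dif_neg hr, Units.val_one]
    rw [this]
    exact Subgroup.one_mem _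

/-- The root element as an element of the group. -/
def XG (r : ℕ) (t : F) : ↥(D.group F) := ⟨X hA r t, X_mem_group hA r t⟩

@[simp] theorem XG_coe (r : ℕ) (t : F) : ((XG hA r t : ↥(D.group F)) : GL D.Idx F) = X hA r t := rfl

theorem XG_coe_mat (r : ℕ) (t : F) :
    (((XG hA r t : ↥(D.group F)) : GL D.Idx F) : Matrix D.Idx D.Idx F) = D.x F r t := rfl

theorem eq_XG {r : ℕ} {t : F} {g : ↥(D.group F)} :
    ((g : GL D.Idx F) : Matrix D.Idx D.Idx F) = D.x F r t ↔ g = XG hA r t :=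
  ⟨fun h => Subtype.ext ((eq_X hA).1 h), fun h => by rw [h]; rfl⟩

@[simp] theorem XG_mul (r : ℕ) (a b : F) : XG hA r a * XG hA r b = XG hA r (a + b) :=
  Subtype.ext (X_mul hA r a b)

@[simp] theorem XG_zero (r : ℕ) : XG hA r (0 : F) = 1 := Subtype.ext (X_zero hA r)

@[simp] theorem XG_inv (r : ℕ) (a : F) : (XG hA r a)⁻¹ = XG hA r (-a) := Subtype.ext (X_inv hA r a)

omit hA in
/-- The relations for `SL₂` descend along an injective homomorphism. -/
theorem rel_of_injective {G₁ G₂ : Type*} [Group G₁] [Group G₂] {x y : F → G₁} {x' y' : F → G₂}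
    (ι : G₁ →* G₂) (hι : Function.Injective ι) (hx : ∀ t, ι (x t) = x' t) (hy : ∀ t, ι (y t) = y' t)
    (hR : Rel x' y') : Rel x y := by
  have hw : ∀ t, ι (w x y t) = w x' y' t := by
    intro t
    simp only [SL2Hom.w, map_mul, hx, hy]
  have hh : ∀ t, ι (h x y t) = h x' y' t := by
    intro t
    simp only [SL2Hom.h, map_mul, hw]
  refine ⟨fun a b => hι ?_, fun a b => hι ?_, fun u => hι ?_, fun s t hs ht => hι ?_, fun s hs u => hι ?_⟩
  · rw [map_mul, hx, hx, hx, hR.addx]
  · rw [map_mul, hy, hy, hy, hR.addy]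
  · rw [map_mul, map_mul, hw, hw, hx, hy, hR.wconj]
  · rw [map_mul, hh, hh, hh, hR.hmul s t hs ht]
  · rw [map_mul, map_mul, map_inv, hh, hx, hx, hR.hconj s hs u]

variable {η : ℕ → ℕ → ℤ} (hR : Sys D F η) (hT : Tbl D)
  (hc : ∀ i < D.rank, D.cartan i (D.simple i) = 2) (hη : ∀ i < D.rank, η i (D.simple i) = -1)

include hR hT hc hη in
theorem rel_XG {r : ℕ} (hr : r < D.nroots) :
    Rel (XG hR.toAddRel r : F → ↥(D.group F)) (XG hR.toAddRel (D.neg r)) :=
  rel_of_injective (D.group F).subtype (Subgroup.subtype_injective _) (fun _ => rfl) (fun _ => rfl)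
    (SL2Root.rel hR hT hc hη hr)

include hR hT in
theorem X_inj {r : ℕ} (hr : r < D.nroots) {a b : F} (h : X hR.toAddRel r a = X hR.toAddRel r b) : a = b := by
  have h1 : X hR.toAddRel r (a + -b) = 1 := by
    rw [← X_mul, ← X_inv, h]
    group
  have h2 : X hR.toAddRel r (a + -b) ∈ D.diagonalSubgroup F := by
    rw [h1]
    exact Subgroup.one_mem _
  have h3 := Cfsg.Agent.Lib.ChevBN.Opp.X_not_mem_H hR hT hr h2
  linear_combination h3

include hR hT in
theorem XG_inj {r : ℕ} (hr : r < D.nroots) {a b : F} (h : XG hR.toAddRel r a = XG hR.toAddRel r b) : a = b :=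
  X_inj hR hT hr (congrArg Subtype.val h)

include hR hT in
/-- Root elements of a positive root and its negative intersect trivially. -/
theorem X_sep {p : ℕ} (hp : D.IsPosRoot p) {τ v : F} (h : X hR.toAddRel p τ = X hR.toAddRel (D.neg p) v) :
    τ = 0 := by
  have h1 : X hR.toAddRel (D.neg p) v ∈ D.borelSubgroup F := by
    rw [← h]
    exact U_le_B hR hT (X_mem_U hR hT hp τ)
  have h2 : v = 0 := by
    by_contra hv
    exact X_neg_not_mem_B hR hT hp hv h1
  rw [h2, X_zero] at h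
  exact X_inj hR hT hp.1 (h.trans (X_zero _ _).symm)

include hR hT in
/-- Root elements of two positive roots: a nontrivial coincidence forces the roots to agree. -/
theorem X_pos_inj {r s : ℕ} (hr : D.IsPosRoot r) (hs : D.IsPosRoot s) {a b : F} (ha : a ≠ 0)
    (h : X hR.toAddRel r a = X hR.toAddRel s b) : r = s := by
  by_contra hne
  rcases lt_or_gt_of_ne hne with hlt | hlt
  · apply ha
    apply eq_zero_of_X_mem (hA := hR.toAddRel) hT hr
    rw [h]
    exact X_mem_gen _ (Ψ := {u | D.IsPosRoot u ∧ r < u}) ⟨hs, hlt⟩ b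
  · have hb : b = 0 := by
      apply eq_zero_of_X_mem (hA := hR.toAddRel) hT hs
      rw [← h]
      exact X_mem_gen _ (Ψ := {u | D.IsPosRoot u ∧ s < u}) ⟨hr, hlt⟩ a
    rw [hb, X_zero] at h
    exact ha (X_inj hR hT hr.1 (h.trans (X_zero _ _).symm))

/-! ### Diagonal automorphisms -/

omit hA in
theorem charDiag_mul_inv' (χ : ℕ → Fˣ) :
    D.charDiag F (fun s => (χ s)⁻¹) * D.charDiag F χ = 1 := by
  simp only [ChevalleyDatum.charDiag, Matrix.diagonal_mul_diagonal]
  rw [← Matrix.diagonal_one]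
  congr 1
  funext i
  rcases i with i | u
  · simp
  · simp

/-- The diagonal matrix of a character as an invertible matrix. -/
def charGL (χ : ℕ → Fˣ) : GL D.Idx F where
  val := D.charDiag F χ
  inv := D.charDiag F (fun s => (χ s)⁻¹)
  val_inv := CharDiag.charDiag_mul_inv χ
  inv_val := charDiag_mul_inv' χ

@[simp] theorem charGL_coe (χ : ℕ → Fˣ) :
    ((charGL χ : GL D.Idx F) : Matrix D.Idx D.Idx F) = D.charDiag F χ := rfl

theorem charGL_inv (χ : ℕ → Fˣ) :
    (charGL (D := D) (fun s => (χ s)⁻¹) : GL D.Idx F) = (charGL χ)⁻¹ :=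
  Units.ext rfl

variable (hck : CharDiag.chainCk D = true)

include hR hT hck in
theorem charGL_conj_mem {χ : ℕ → Fˣ} (hχ : D.IsRootCharacter χ) {g : GL D.Idx F} (hg : g ∈ D.group F) :
    charGL χ * g * (charGL χ)⁻¹ ∈ D.group F := by
  rw [group_eq hR.toAddRel] at hg
  refine gen_induction hR.toAddRel (P := fun g => charGL χ * g * (charGL χ)⁻¹ ∈ D.group F)
    (by simp) ?_ ?_ hg
  · intro r hr t
    rw [CharDiag.conj_X hR hT hck hχ (charGL_coe χ) hr t]
    exact X_mem_group _ _ _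
  · intro a b ha hb
    have e : charGL χ * (a * b) * (charGL χ)⁻¹ = (charGL χ * a * (charGL χ)⁻¹) * (charGL χ * b * (charGL χ)⁻¹) := by
      group
    rw [e]
    exact Subgroup.mul_mem _ ha hb

include hR hT hck

/-- The diagonal automorphism of a character. -/
def dAut {χ : ℕ → Fˣ} (hχ : D.IsRootCharacter χ) : ↥(D.group F) ≃* ↥(D.group F) :=
  conjAut (charGL χ) (fun _ hg => charGL_conj_mem hR hT hck hχ hg) (fun g hg => by
    have h1 := charGL_conj_mem hR hT hck (CharDiag.inv_char hχ) hg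
    rw [charGL_inv] at h1
    simpa using h1)

theorem dAut_coe {χ : ℕ → Fˣ} (hχ : D.IsRootCharacter χ) (a : ↥(D.group F)) :
    ((dAut hR hT hck hχ a : ↥(D.group F)) : GL D.Idx F) = charGL χ * a.1 * (charGL χ)⁻¹ := rfl

theorem dAut_XG {χ : ℕ → Fˣ} (hχ : D.IsRootCharacter χ) {r : ℕ} (hr : r < D.nroots) (t : F) :
    dAut hR hT hck hχ (XG hR.toAddRel r t) = XG hR.toAddRel r ((χ r : F) * t) := by
  apply Subtype.ext
  rw [dAut_coe]
  exact CharDiag.conj_X hR hT hck hχ (charGL_coe χ) hr t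

theorem isDiagonalAut_dAut {χ : ℕ → Fˣ} (hχ : D.IsRootCharacter χ) : D.IsDiagonalAut (dAut hR hT hck hχ) := by
  refine ⟨χ, hχ, fun g => ?_⟩
  rw [dAut_coe, Units.val_mul, Units.val_mul, charGL_coe]
  congr 1

theorem dAut_symm_eq {χ : ℕ → Fˣ} (hχ : D.IsRootCharacter χ) :
    (dAut hR hT hck hχ).symm = dAut hR hT hck (CharDiag.inv_char hχ) := by
  apply MulEquiv.ext
  intro a
  apply Subtype.ext
  rw [dAut_coe, charGL_inv]
  simp only [inv_inv]
  rfl

end

end Cfsg.Agent.Lib.ChevAut
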