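import Cfsg.Agent.Lib.Chevalley.CharDiagCk
import Cfsg.Agent.Lib.ChevBN.FastData2

/-!
# The coefficients of the roots on the fundamental roots; characters of the root lattice
-/

set_option autoImplicit false
set_option maxRecDepth 100000
set_option linter.unusedSectionVars false

namespace Cfsg.Agent.Lib.ChevAut

open Cfsg.Lie

/-- The coefficients of the roots on the fundamental roots. -/
structure Coef (D : ChevalleyDatum) (n : ℕ → ℕ → ℤ) : Prop where
  neg : ∀ r < D.nroots, ∀ j < D.rank, n (D.neg r) j = - n r j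
  add : ∀ r s k, r < D.nroots → s < D.nroots → D.chainRoot r s 1 = some k →
    ∀ j < D.rank, n k j = n r j + n s j
  simple : ∀ i < D.rank, ∀ j < D.rank, n (D.simple i) j = if i = j then 1 else 0

/-- The check of the additivity of coefficients. -/
def coefAddCk (D : ChevalleyDatum) (n : ℕ → ℕ → ℤ) : Bool :=
  (List.range D.nroots).all fun r => (D.chain.getD r #[]).toList.all fun e =>
    match e.2.toList with
    | [] => true
    | q :: _ => (List.range D.rank).all fun j => n q.1 j == n r j + n e.1 j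

/-- The check of the coefficients. -/
def coefCk (D : ChevalleyDatum) (n : ℕ → ℕ → ℤ) : Bool :=
  ((List.range D.nroots).all fun r => (List.range D.rank).all fun j => n (D.neg r) j == - n r j) &&
  coefAddCk D n &&
  ((List.range D.rank).all fun i => (List.range D.rank).all fun j =>
    n (D.simple i) j == if i = j then 1 else 0)

theorem coef_of_ck {D : ChevalleyDatum} {n : ℕ → ℕ → ℤ} (h : coefCk D n = true) : Coef D n := by
  simp only [coefCk, Bool.and_eq_true, List.all_eq_true, List.mem_range, beq_iff_eq] at h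
  obtain ⟨⟨h1, h2⟩, h3⟩ := h
  refine ⟨h1, ?_, h3⟩
  intro r s k hr hs hk j hj
  simp only [coefAddCk, List.all_eq_true, List.mem_range] at h2
  simp only [ChevalleyDatum.chainRoot, ChevalleyDatum.chainEntry] at hk
  cases hf : (D.chain.getD r #[]).toList.find? (fun e => e.1 = s) with
  | none =>
    rw [hf] at hk
    simp at hk
  | some e =>
    rw [hf] at hk
    have he : e ∈ (D.chain.getD r #[]).toList := List.mem_of_find?_eq_some hf
    have hes : e.1 = s := by simpa using List.find?_some hf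
    have h4 := h2 r hr e he
    simp only at hk
    cases hl : e.2.toList with
    | nil =>
      rw [hl] at hk
      simp at hk
    | cons q t =>
      rw [hl] at hk h4
      simp only [List.all_eq_true, List.mem_range, beq_iff_eq] at h4
      simp only [Nat.sub_self, List.getElem?_cons_zero, Option.map_some, Option.some.injEq] at hk
      rw [← hk, ← hes]
      exact h4 j hj

/-- The coefficients given by the coroot table, for one root length. -/
def crn (D : ChevalleyDatum) (r j : ℕ) : ℤ := (D.coroot.getD r #[]).getD j 0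

/-- The coefficients given by a table. -/
def tn (T : Array (Array ℤ)) (r j : ℕ) : ℤ := (T.getD r #[]).getD j 0

def coefB2 : Array (Array ℤ) := #[#[-2, -1], #[-1, -1], #[-1, 0], #[0, -1], #[0, 1], #[1, 0], #[1, 1], #[2, 1]]

def coefG2 : Array (Array ℤ) :=
  #[#[-3, -2], #[-3, -1], #[-2, -1], #[-1, -1], #[-1, 0], #[0, -1], #[0, 1], #[1, 0], #[1, 1], #[2, 1], #[3, 1], #[3, 2]]

def coefF4 : Array (Array ℤ) :=
  #[#[-2, -4, -3, -2], #[-2, -4, -3, -1], #[-2, -4, -2, -1], #[-2, -3, -2, -1], #[-2, -2, -2, -1], #[-2, -2, -1, -1],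
  #[-2, -2, -1, 0], #[-1, -3, -2, -1], #[-1, -2, -2, -1], #[-1, -2, -1, -1], #[-1, -2, -1, 0], #[-1, -1, -1, -1],
  #[-1, -1, -1, 0], #[-1, -1, 0, 0], #[-1, 0, 0, 0], #[0, -2, -2, -1], #[0, -2, -1, -1], #[0, -2, -1, 0], #[0, -1, -1, -1],
  #[0, -1, -1, 0], #[0, -1, 0, 0], #[0, 0, -1, -1], #[0, 0, -1, 0], #[0, 0, 0, -1], #[0, 0, 0, 1], #[0, 0, 1, 0], #[0, 0, 1, 1],
  #[0, 1, 0, 0], #[0, 1, 1, 0], #[0, 1, 1, 1], #[0, 2, 1, 0], #[0, 2, 1, 1], #[0, 2, 2, 1], #[1, 0, 0, 0], #[1, 1, 0, 0],
  #[1, 1, 1, 0], #[1, 1, 1, 1], #[1, 2, 1, 0], #[1, 2, 1, 1], #[1, 2, 2, 1], #[1, 3, 2, 1], #[2, 2, 1, 0], #[2, 2, 1, 1],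
  #[2, 2, 2, 1], #[2, 3, 2, 1], #[2, 4, 2, 1], #[2, 4, 3, 1], #[2, 4, 3, 2]]

theorem coefCk_B2 : coefCk chevB2 (tn coefB2) = true := by decide +kernel
theorem coefCk_G2 : coefCk chevG2 (tn coefG2) = true := by decide +kernel
theorem coefCk_F4 : coefCk chevF4 (tn coefF4) = true := by decide +kernel

theorem coefAdd_of_ck {D : ChevalleyDatum} {n : ℕ → ℕ → ℤ} (h : coefAddCk D n = true) :
    ∀ r s k, r < D.nroots → s < D.nroots → D.chainRoot r s 1 = some k →
    ∀ j < D.rank, n k j = n r j + n s j := by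
  intro r s k hr hs hk j hj
  simp only [coefAddCk, List.all_eq_true, List.mem_range] at h
  simp only [ChevalleyDatum.chainRoot, ChevalleyDatum.chainEntry] at hk
  cases hf : (D.chain.getD r #[]).toList.find? (fun e => e.1 = s) with
  | none =>
    rw [hf] at hk
    simp at hk
  | some e =>
    rw [hf] at hk
    have he : e ∈ (D.chain.getD r #[]).toList := List.mem_of_find?_eq_some hf
    have hes : e.1 = s := by simpa using List.find?_some hf
    have h4 := h r hr e he
    simp only at hk
    cases hl : e.2.toList with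
    | nil =>
      rw [hl] at hk
      simp at hk
    | cons q t =>
      rw [hl] at hk h4
      simp only [List.all_eq_true, List.mem_range, beq_iff_eq] at h4
      simp only [Nat.sub_self, List.getElem?_cons_zero, Option.map_some, Option.some.injEq] at hk
      rw [← hk, ← hes]
      exact h4 j hj

open Cfsg.Agent.Lib.ChevBN.Table Cfsg.Agent.Lib.ChevBN.Fast Cfsg.Agent.Lib.ChevBN.FastData in
/-- The coroot coefficients for one root length, through the packed tables. -/
theorem coef_of_fast {T : FastTab} {D : ChevalleyDatum} (hT : Tbl D) (hR : chkR T D = true)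
    (h : coefAddCk D (T.R D) = true) : Coef D (T.R D) := by
  refine ⟨fun r hr j hj => ?_, coefAdd_of_ck h, fun i hi j hj => ?_⟩
  · rw [← cr_eq hR hr hj, ← cr_eq hR (hT.neg_lt hr) hj, hT.coroot_neg r hr j hj]
  · rw [← cr_eq hR (hT.simple_lt hi) hj, hT.coroot_simple i hi j hj]

open Cfsg.Agent.Lib.ChevBN.FastData

theorem coefAdd_D4 : coefAddCk chevD4 (tabD4.R chevD4) = true := by decide +kernel
theorem coefAdd_E6 : coefAddCk chevE6 (tabE6.R chevE6) = true := by decide +kernel
theorem coefAdd_E7 : coefAddCk chevE7 (tabE7.R chevE7) = true := by decide +kernel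
theorem coefAdd_E8 : coefAddCk chevE8 (tabE8.R chevE8) = true := by decide +kernel

theorem exists_coef {D : ChevalleyDatum} (hD : D ∈ [chevG2, chevB2, chevD4, chevF4, chevE6, chevE7, chevE8]) :
    ∃ n, Coef D n := by
  simp only [List.mem_cons, List.not_mem_nil, or_false] at hD
  rcases hD with rfl | rfl | rfl | rfl | rfl | rfl | rfl
  · exact ⟨_, coef_of_ck coefCk_G2⟩
  · exact ⟨_, coef_of_ck coefCk_B2⟩
  · exact ⟨_, coef_of_fast tbl_chevD4 hR_D4 coefAdd_D4⟩
  · exact ⟨_, coef_of_ck coefCk_F4⟩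
  · exact ⟨_, coef_of_fast tbl_chevE6 hR_E6 coefAdd_E6⟩
  · exact ⟨_, coef_of_fast tbl_chevE7 hR_E7 coefAdd_E7⟩
  · exact ⟨_, coef_of_fast tbl_chevE8 hR_E8 coefAdd_E8⟩

variable {D : ChevalleyDatum} {F : Type*} [Field F]

/-- The character with given values on the fundamental roots. -/
def charOf (D : ChevalleyDatum) (n : ℕ → ℕ → ℤ) (c : ℕ → Fˣ) (r : ℕ) : Fˣ :=
  ∏ j ∈ Finset.range D.rank, c j ^ n r j

theorem charOf_isRootCharacter {n : ℕ → ℕ → ℤ} (hn : Coef D n) (c : ℕ → Fˣ) :
    D.IsRootCharacter (charOf D n c) := by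
  refine ⟨fun r hr => ?_, fun r s k hr hs hk => ?_⟩
  · rw [charOf, charOf, ← Finset.prod_inv_distrib]
    refine Finset.prod_congr rfl fun j hj => ?_
    rw [hn.neg r hr j (Finset.mem_range.mp hj), zpow_neg]
  · rw [charOf, charOf, charOf, ← Finset.prod_mul_distrib]
    refine Finset.prod_congr rfl fun j hj => ?_
    rw [hn.add r s k hr hs hk j (Finset.mem_range.mp hj), zpow_add]

theorem charOf_simple {n : ℕ → ℕ → ℤ} (hn : Coef D n) (c : ℕ → Fˣ) {i : ℕ} (hi : i < D.rank) :
    charOf D n c (D.simple i) = c i := by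
  rw [charOf, Finset.prod_eq_single i]
  · rw [hn.simple i hi i hi, if_pos rfl, zpow_one]
  · intro j hj hji
    rw [hn.simple i hi j (Finset.mem_range.mp hj), if_neg (Ne.symm hji), zpow_zero]
  · intro h
    exact absurd (Finset.mem_range.mpr hi) h

/-- There is a character of the root lattice with given values on the fundamental roots. -/
theorem exists_char (hD : D ∈ [chevG2, chevB2, chevD4, chevF4, chevE6, chevE7, chevE8]) (c : ℕ → Fˣ) :
    ∃ χ : ℕ → Fˣ, D.IsRootCharacter χ ∧ ∀ i < D.rank, χ (D.simple i) = c i := by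
  obtain ⟨n, hn⟩ := exists_coef hD
  exact ⟨_, charOf_isRootCharacter hn c, fun i hi => charOf_simple hn c hi⟩

end Cfsg.Agent.Lib.ChevAut
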