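import Mathlib

/-!
# The automorphisms of a finite field
-/

set_option autoImplicit false

namespace Cfsg.Agent.Lib.ChevAut.FieldCard

variable {F : Type*} [Field F] [Fintype F]

/-- Ring automorphisms of a finite field are Galois automorphisms over the prime field. -/
noncomputable def ringAutGal (p : ℕ) [Fact p.Prime] [CharP F p] :
    letI := ZMod.algebra F p
    (F ≃+* F) ≃* (F ≃ₐ[ZMod p] F) :=
  letI := ZMod.algebra F p
  { toFun := fun σ => AlgEquiv.ofRingEquiv (f := σ) (fun r => by
      have : (σ : F →+* F).comp (algebraMap (ZMod p) F) = algebraMap (ZMod p) F := Subsingleton.elim _ _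
      exact congrArg (fun f : ZMod p →+* F => f r) this)
    invFun := fun σ => σ.toRingEquiv
    left_inv := fun σ => by ext x; rfl
    right_inv := fun σ => by ext x; rfl
    map_mul' := fun σ τ => by ext x; rfl }

theorem isCyclic_aut (p : ℕ) [Fact p.Prime] [CharP F p] : IsCyclic (F ≃+* F) := by
  letI := ZMod.algebra F p
  exact isCyclic_of_surjective (ringAutGal (F := F) p).symm.toMonoidHom (ringAutGal (F := F) p).symm.surjective

theorem card_aut (p f : ℕ) [Fact p.Prime] [CharP F p] (hF : Fintype.card F = p ^ f) :
    Nat.card (F ≃+* F) = f := by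
  letI := ZMod.algebra F p
  rw [Nat.card_congr (ringAutGal (F := F) p).toEquiv]
  rw [← Nat.card_eq_of_bijective _ (FiniteField.bijective_frobeniusAlgEquivOfAlgebraic_pow (ZMod p) F)]
  rw [Nat.card_eq_fintype_card, Fintype.card_fin]
  have h1 := Module.card_eq_pow_finrank (K := ZMod p) (V := F)
  rw [ZMod.card, hF] at h1
  exact (Nat.pow_right_injective (Fact.out : p.Prime).two_le h1).symm

end Cfsg.Agent.Lib.ChevAut.FieldCard
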