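import Cfsg.Agent.Lib.Chevalley.SL2Hom

/-!
# Maps between rank one groups

A homomorphism between groups with Steinberg relations of `SL₂`, carrying root elements to root elements
via `φ`, `ψ`, with `φ 1 = 1`: then `φ = ψ` is a field automorphism.
-/

set_option autoImplicit false
set_option linter.unusedSectionVars false
set_option linter.unusedSimpArgs false

namespace Cfsg.Agent.Lib.ChevAut.Rank1

open Cfsg.Agent.Lib.Chevalley.SL2Hom Matrix

noncomputable section

variable {F G₁ G₂ : Type*} [Field F] [Group G₁] [Group G₂] {x y : F → G₁} {x' y' : F → G₂}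

theorem hom_Wm (hR : Rel x y) (t : F) : hom hR (Wm t) = w x y t := by
  simp only [Wm, map_mul, hom_X, hom_Y, w]

/-- In `SL₂`: `x(a) y(b) = y(b/w) h(w) x(a/w)`, `w = 1 + a b`. -/
theorem xy_decomp (hR : Rel x y) {a b : F} (hw : 1 + a * b ≠ 0) :
    x a * y b = y (b / (1 + a * b)) * h x y (1 + a * b) * x (a / (1 + a * b)) := by
  have key : ∀ W : F, W ≠ 0 → 1 + a * b = W → (X a * Y b : Matrix.SpecialLinearGroup (Fin 2) F) =
      Y (b / W) * (Wm W * Wm (-1)) * X (a / W) := by
    intro W hW hab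
    apply sl2_ext <;> simp only [Wm, coe_mul', X_coe, Y_coe, Matrix.mul_apply, Fin.sum_univ_two] <;>
      simp <;> field_simp <;> first | ring1 | linear_combination hab | linear_combination -hab
  have h1 := congrArg (hom hR) (key _ hw rfl)
  simpa only [map_mul, hom_X, hom_Y, hom_Wm, h] using h1

/-- `w(t) x(u) w(t)⁻¹ = y(-t⁻² u)`. -/
theorem w_conj (hR : Rel x y) {t : F} (ht : t ≠ 0) (u : F) :
    w x y t * x u * (w x y t)⁻¹ = y (-(t⁻¹ * t⁻¹ * u)) := by
  have key : (Wm t * X u : Matrix.SpecialLinearGroup (Fin 2) F) = Y (-(t⁻¹ * t⁻¹ * u)) * Wm t := by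
    have e : t * t⁻¹ = 1 := mul_inv_cancel₀ ht
    apply sl2_ext <;> simp only [Wm, coe_mul', X_coe, Y_coe, Matrix.mul_apply, Fin.sum_univ_two] <;>
      simp [e]
    field_simp
  have h1 := congrArg (hom hR) key
  simp only [map_mul, hom_X, hom_Y, hom_Wm] at h1
  rw [h1]
  group

/-- If `x(a) y(b) x(a)` conjugates `x(τ)`, `τ ≠ 0`, to an element of `y`, then `1 + a b = 0`. -/
theorem key (hR : Rel x y) (hsep : ∀ τ v : F, x τ = y v → τ = 0) {a b τ v : F} (hτ : τ ≠ 0)
    (he : (x a * y b * x a) * x τ * (x a * y b * x a)⁻¹ = y v) : 1 + a * b = 0 := by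
  by_contra hw
  set W := 1 + a * b with hW
  have h1 := xy_decomp hR hw
  rw [← hW] at h1
  have hWne : W ≠ 0 := hw
  have h2 : x a * y b * x a = y (b / W) * (h x y W * x (a / W + a)) := by
    rw [h1, ← hR.addx]
    group
  have h3 : h x y W * x (a / W + a) * x τ * (h x y W * x (a / W + a))⁻¹ = x (W * W * τ) := by
    have hc : x (a / W + a) * x τ * (x (a / W + a))⁻¹ = x τ := by
      rw [x_neg hR, hR.addx, hR.addx]
      congr 1
      ring
    calc _ = h x y W * (x (a / W + a) * x τ * (x (a / W + a))⁻¹) * (h x y W)⁻¹ := by group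
      _ = h x y W * x τ * (h x y W)⁻¹ := by rw [hc]
      _ = _ := hR.hconj W hWne τ
  have h4 : x (W * W * τ) = y (- (b / W) + v + b / W) := by
    rw [← hR.addy, ← hR.addy, ← y_neg hR, ← he, h2, ← h3]
    group
  have := hsep _ _ h4
  exact mul_ne_zero (mul_ne_zero hWne hWne) hτ this

variable (hR : Rel x y) (hR' : Rel x' y') (θ : G₁ →* G₂) {φ ψ : F → F}
  (hφ : ∀ t, θ (x t) = x' (φ t)) (hψ : ∀ t, θ (y t) = y' (ψ t))
  (hsep : ∀ τ v : F, x' τ = y' v → τ = 0)
include hR hR' hφ hψ hsep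

theorem eq1 (h1 : φ 1 ≠ 0) {t : F} (ht : t ≠ 0) : φ t * ψ (-t⁻¹) = -1 := by
  have h2 := congrArg θ (w_conj hR ht 1)
  simp only [map_mul, map_inv, hφ, hψ, w] at h2
  have := key hR' hsep h1 h2
  linear_combination this

theorem exists_ringEquiv [Finite F] (hinjx : ∀ a b : F, x' a = x' b → a = b)
    (hinjy : ∀ a b : F, y' a = y' b → a = b) (hφinj : Function.Injective φ) (h1 : φ 1 = 1) :
    ∃ σ : F ≃+* F, (∀ t, φ t = σ t) ∧ (∀ t, ψ t = σ t) := by
  have addφ : ∀ a b, φ (a + b) = φ a + φ b := by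
    intro a b
    apply hinjx
    rw [← hφ, ← hR.addx, map_mul, hφ, hφ, hR'.addx]
  have addψ : ∀ a b, ψ (a + b) = ψ a + ψ b := by
    intro a b
    apply hinjy
    rw [← hψ, ← hR.addy, map_mul, hψ, hψ, hR'.addy]
  have h10 : φ 1 ≠ 0 := by rw [h1]; exact one_ne_zero
  let φa : F →+ F := AddMonoidHom.mk' φ addφ
  let ψa : F →+ F := AddMonoidHom.mk' ψ addψ
  have negφ : ∀ a, φ (-a) = -φ a := fun a => map_neg φa a
  have negψ : ∀ a, ψ (-a) = -ψ a := fun a => map_neg ψa a
  have zeroφ : φ 0 = 0 := map_zero φa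
  have e1 : ψ (-1) = -1 := by
    have := eq1 hR hR' θ hφ hψ hsep h10 (t := 1) one_ne_zero
    simpa [h1] using this
  have hw1 : θ (w x y 1) = w x' y' 1 := by
    simp only [w, map_mul, hφ, hψ, h1, inv_one, e1]
  have hwm1 : θ (w x y (-1)) = w x' y' (-1) := by
    have := w_inv hR (1 : F)
    rw [← this, map_inv, hw1, w_inv hR']
  have hψφ : ∀ t, ψ t = φ t := by
    intro t
    have h2 := congrArg θ (hR.wconj (-t))
    rw [map_mul, map_mul, hwm1, hw1, hφ, hR'.wconj, hψ] at h2
    have h3 := hinjy _ _ h2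
    rw [negφ, neg_neg, neg_neg] at h3
    exact h3.symm
  have hinv : ∀ {t : F}, t ≠ 0 → φ (-t⁻¹) = -(φ t)⁻¹ := by
    intro t ht
    have h2 := eq1 hR hR' θ hφ hψ hsep h10 ht
    rw [hψφ] at h2
    have h3 : φ t ≠ 0 := by
      intro h4
      rw [h4, zero_mul] at h2
      exact one_ne_zero (neg_eq_zero.mp h2.symm)
    generalize φ (-t⁻¹) = v at h2 ⊢
    field_simp
    linear_combination h2
  have hwt : ∀ {t : F}, t ≠ 0 → θ (w x y t) = w x' y' (φ t) := by
    intro t ht
    simp only [w, map_mul, hφ, hψ, hψφ, hinv ht]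
  have hh : ∀ {t : F}, t ≠ 0 → θ (h x y t) = h x' y' (φ t) := by
    intro t ht
    rw [h, map_mul, hwt ht, hwm1, h]
  have hsq : ∀ s u : F, φ (s * s * u) = φ s * φ s * φ u := by
    intro s u
    by_cases hs : s = 0
    · subst hs
      simp [zeroφ]
    have hs' : φ s ≠ 0 := by
      intro h4
      apply hs
      apply hφinj
      rw [h4, zeroφ]
    apply hinjx
    rw [← hφ, ← hR.hconj s hs u, ← hR'.hconj (φ s) hs' (φ u), map_mul, map_mul, map_inv, hh hs, hφ]
  have hsq1 : ∀ s : F, φ (s * s) = φ s * φ s := by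
    intro s
    have := hsq s 1
    rwa [mul_one, h1, mul_one] at this
  have hmul : ∀ s t : F, φ (s * t) = φ s * φ t := by
    intro s t
    by_cases h2 : (2 : F) = 0
    · have : CharP F 2 := by
        exact CharTwo.of_one_ne_zero_of_two_eq_zero one_ne_zero h2
      have hsqr : IsSquare s := FiniteField.isSquare_of_char_two (ringChar.eq F 2) s
      obtain ⟨c, rfl⟩ := hsqr
      rw [hsq, hsq1]
    · have h3 := hsq1 (s + t)
      have h4 : (s + t) * (s + t) = s * s + (s * t + s * t) + t * t := by ring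
      rw [h4, addφ, addφ, addφ, hsq1, hsq1, addφ] at h3
      have h5 : 2 * (φ (s * t) - φ s * φ t) = 0 := by linear_combination h3
      have h6 := (mul_eq_zero.mp h5).resolve_left h2
      exact sub_eq_zero.mp h6
  have hbij : Function.Bijective φ := by
    refine ⟨hφinj, Finite.surjective_of_injective hφinj⟩
  let σh : F →+* F :=
    { toFun := φ, map_one' := h1, map_mul' := hmul, map_zero' := zeroφ, map_add' := addφ }
  refine ⟨RingEquiv.ofBijective σh hbij, fun t => rfl, fun t => hψφ t⟩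

end

end Cfsg.Agent.Lib.ChevAut.Rank1
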