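import Mathlib
import Cfsg.Agent.Lib.ChevAut.TwoGen

/-! Certificates of the two-generation of the exceptional Chevalley groups. -/

set_option autoImplicit false
set_option maxRecDepth 100000

namespace Cfsg.Agent.Lib.ChevAut.TwoGenData

open Cfsg.Lie Cfsg.Agent.Lib.ChevAut.TwoGen

theorem check_E6 : checkA Cfsg.Lie.chevE6 [0, 1, 2, 3, 4, 5] [6] 2 17 (1) u1
    [.opi 2]
    [.ofi 17, .ofi 31, .ofi 33, .fadd 2 62 26, .ofi 62, .ofi 26, .fadd 2 68 34, .fadd 2 57 16, .fadd 62 34 61, .ofi 68, .ofi 57, .ofi 34, .ofi 16, .ofi 61, .ofi 53, .ofi 50, .ofi 35, .ofi 67, .fadd 2 66 29, .fadd 2 63 27, .fadd 2 71 47, .fadd 68 29 65, .fadd 57 29 56, .ofi 66, .ofi 64, .ofi 63, .ofi 71, .ofi 29, .ofi 27, .ofi 47, .ofi 65, .ofi 56, .fadd 2 45 9, .fadd 2 70 39, .fadd 2 24 0, .fadd 2 59 19, .fadd 2 44 8, .fadd 2 42 5, .fadd 26 9 2, .fadd 68 0 23, .fadd 68 19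 58, .fadd 66 9 41, .fadd 66 0 21, .fadd 66 8 40, .fadd 66 23 60, .fadd 63 9 36, .fadd 63 0 18, .fadd 71 9 54, .fadd 29 23 20, .fadd 45 19 25, .ofi 45, .ofi 43, .ofi 70, .ofi 24, .ofi 22, .ofi 59, .ofi 44, .ofi 9, .ofi 39, .ofi 0, .ofi 19, .ofi 8, .ofi 23, .ofi 58, .ofi 41, .ofi 21, .ofi 40, .ofi 60, .ofi 20, .ofi 25, .fadd 2 38 4] = true := by
  decide +kernel

theorem check_E7 : checkA Cfsg.Lie.chevE7 [0, 1, 2, 3, 4, 5, 6] [8] 3 54 (1) u1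
    [.opi 3, .opi 8, .opi 34]
    [.ofi 54, .ofi 57, .fadd 3 100 33, .ofi 100, .ofi 33, .ofi 110, .ofi 53, .fadd 3 120 58, .ofi 120, .ofi 99, .ofi 58, .ofi 115, .ofi 109, .ofi 60, .fadd 3 101 34, .ofi 122, .ofi 119, .ofi 101, .fadd 3 125 95, .ofi 117, .ofi 125, .ofi 111, .ofi 95, .fadd 3 91 24, .fadd 3 124 74, .fadd 3 84 17, .fadd 100 24 61, .fadd 34 24 3, .fadd 117 61 116, .ofi 91, .ofi 124, .ofi 87, .ofi 84, .ofi 24, .ofi 74, .ofi 17, .ofi 61, .ofi 3, .ofi 116, .fadd 3 123 69, .fadd 3 106 39, .fadd 3 80 11, .fadd 3 90 23, .fadd 100 69 103, .fadd 91 39 70, .ofi 71, .ofi 123, .ofi 106, .ofi 104, .ofi 14, .ofi 80, .ofi 48, .ofi 62, .ofi 90, .ofi 69, .ofi 39, .ofi 11, .ofi 23, .ofi 103, .ofi 70, .fadd 3 68 6, .fadd 3 118 47, .fadd 3 114 45, .fadd 3 113 44, .fadd 3 102 35, .fadd 3 108 41, .fadd 3 66 4, .fadd 3 56 2, .fadd 3 51 1, .fadd 3 112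 43, .fadd 3 67 5, .fadd 100 6 37, .fadd 100 47 96, .fadd 100 41 93, .fadd 120 6 63, .fadd 120 41 105, .fadd 120 1 49, .fadd 117 37 98, .fadd 91 45 77, .fadd 91 41 72, .fadd 91 2 21, .fadd 91 1 15, .fadd 91 43 75, .fadd 91 5 26, .fadd 91 93 107, .fadd 124 2 73, .fadd 124 5 76, .fadd 84 5 20, .fadd 24 93 40, .fadd 71 37 42, .fadd 71 49 52, .fadd 68 43 46, .ofi 68, .ofi 118, .ofi 114, .ofi 113, .ofi 38, .ofi 97, .ofi 94, .ofi 66, .ofi 56, .ofi 36, .ofi 112, .ofi 67, .ofi 6, .ofi 47, .ofi 45, .ofi 44, .ofi 4, .ofi 2, .ofi 43, .ofi 5, .ofi 37, .ofi 96, .ofi 98, .ofi 77, .ofi 21, .ofi 75, .ofi 26, .ofi 73, .ofi 76, .ofi 20, .ofi 42, .ofi 46, .fadd 3 82 13] = true := by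
  decide +kernel

theorem check_E8 : checkA Cfsg.Lie.chevE8 [0, 1, 2, 3, 4, 5, 6, 7] [13] 0 78 (-1) u1
    [.opi 0, .opi 15, .opi 21, .opi 36]
    [.ofi 78, .ofi 105, .ofi 169, .ofi 184, .ofi 204, .ofi 226, .ofi 234, .fadd 0 235 110, .ofi 235, .ofi 110, .fadd 0 236 114, .ofi 236, .ofi 170, .ofi 114, .fadd 0 237 117, .ofi 237, .ofi 185, .ofi 171, .ofi 117, .fadd 0 238 119, .ofi 238, .ofi 205, .ofi 186, .ofi 172, .ofi 119, .fadd 0 206 36, .fadd 0 187 21, .fadd 0 173 15, .ofi 239, .ofi 227, .ofi 206, .ofi 187, .ofi 173, .fadd 0 224 66, .fadd 15 66 0, .ofi 224, .ofi 219, .ofi 194, .ofi 152, .ofi 136, .ofi 66, .fadd 0 218 52, .fadd 0 233 99, .fadd 235 52 214, .ofi 218, .ofi 233, .ofi 210, .ofi 178, .ofi 143, .ofi 103, .ofi 52, .ofi 99, .ofi 214, .fadd 0 203 33, .fadd 0 232 93, .fadd 0 229 81, .fadd 0 230 84, .fadd 235 33 197, .fadd 236 33 200,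 .fadd 218 81 181, .ofi 203, .ofi 232, .ofi 229, .ofi 191, .ofi 166, .ofi 96, .ofi 87, .ofi 163, .ofi 230, .ofi 33, .ofi 93, .ofi 81, .ofi 84, .ofi 197, .ofi 200, .ofi 181, .fadd 0 161 12, .fadd 0 225 71, .fadd 0 221 57, .fadd 0 209 38, .fadd 0 222 59, .fadd 0 212 41, .fadd 0 213 43, .fadd 0 193 24, .fadd 235 12 154, .fadd 235 43 207, .fadd 236 12 157, .fadd 236 24 189, .fadd 237 12 159, .fadd 224 24 139, .fadd 218 38 145, .fadd 218 24 128, .fadd 203 38 124, .ofi 161, .ofi 225, .ofi 221, .ofi 209, .ofi 150, .ofi 73, .ofi 61, .ofi 147, .ofi 222, .ofi 45, .ofi 141, .ofi 107, .ofi 108, .ofi 212, .ofi 213, .ofi 193, .ofi 12, .ofi 71, .ofi 57, .ofi 38, .ofi 59, .ofi 41, .ofi 43, .ofi 24, .ofi 154, .ofi 207, .ofi 157, .ofi 189, .ofi 159, .ofi 139, .ofi 145, .ofi 128, .ofi 124, .fadd 0 134 5, .fadd 0 231 88, .fadd 0 215 46, .fadd 0 196 26, .fadd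 0 177 16, .fadd 0 216 47, .fadd 0 198 27, .fadd 0 199 28, .fadd 0 155 9, .fadd 0 180 17, .fadd 0 228 79, .fadd 0 182 18, .fadd 0 208 37, .fadd 0 183 19, .fadd 0 146 7, .fadd 0 168 14, .fadd 0 125 3, .fadd 0 122 2, .fadd 235 5 130, .fadd 235 18 175, .fadd 235 19 176, .fadd 235 7 142, .fadd 235 3 113, .fadd 236 5 131, .fadd 236 28 195, .fadd 236 19 179, .fadd 236 14 165, .fadd 236 2 116, .fadd 237 5 132, .fadd 237 9 153, .fadd 237 7 144, .fadd 237 3 123, .fadd 238 5 133, .fadd 238 14 167, .fadd 238 2 121, .fadd 224 7 76, .fadd 224 14 98, .fadd 224 3 69, .fadd 224 2 68, .fadd 218 16 104, .fadd 218 14 92, .fadd 218 3 55, .fadd 218 2 54, .fadd 218 113 217, .fadd 233 3 102, .fadd 52 113 49, .fadd 203 16 91, .fadd 203 2 35, .fadd 203 116 202, .fadd 232 2 95, .fadd 87 116 86, .fadd 33 116 31, .fadd 161 16 51, .fadd 161 37 74, .fadd 134 79 90, .fadd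 134 37 50, .ofi 134, .ofi 231, .ofi 196, .ofi 177, .ofi 89, .ofi 48, .ofi 174, .ofi 216, .ofi 29, .ofi 164, .ofi 112, .ofi 199, .ofi 20, .ofi 162, .ofi 80, .ofi 101, .ofi 83, .ofi 180, .ofi 228, .ofi 183, .ofi 168, .ofi 122, .ofi 5, .ofi 88, .ofi 26, .ofi 16, .ofi 47, .ofi 28, .ofi 17, .ofi 79, .ofi 19, .ofi 14, .ofi 2, .ofi 130, .ofi 176, .ofi 131, .ofi 195, .ofi 179, .ofi 165, .ofi 116, .ofi 133, .ofi 167, .ofi 121, .ofi 98, .ofi 68, .ofi 104, .ofi 92, .ofi 54, .ofi 91, .ofi 35, .ofi 202, .ofi 95, .ofi 86, .ofi 31, .ofi 51, .ofi 90, .fadd 0 160 11] = true := by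
  decide +kernel

theorem check_G2 : checkA Cfsg.Lie.chevG2 [0, 1] [5] 2 3 (1) u3
    [.opi 2]
    [.ofi 3, .fadd 3 7 5, .fadd 2 3 0, .ofi 7, .ofi 5, .ofi 9, .ofi 10, .ofi 8, .ofi 11, .fadd 2 8 1, .fadd 3 6 2] = true := by
  decide +kernel

theorem check_F4 : checkA Cfsg.Lie.chevF4 [0, 1, 2, 3] [15] 3 7 (1) u2
    [.opi 3]
    [.ofi 7, .ofi 8, .fadd 3 18 0, .ofi 18, .ofi 0, .ofi 34, .ofi 15, .fadd 3 37 11, .ofi 37, .ofi 21, .ofi 11, .ofi 44, .ofi 41, .ofi 33, .fadd 3 40 14, .fadd 3 45 4, .fadd 7 14 3, .fadd 37 14 30, .ofi 40, .ofi 45, .ofi 27, .ofi 14, .ofi 4, .ofi 30, .fadd 3 39 13, .fadd 3 35 9, .fadd 3 20 2, .fadd 0 46 23, .fadd 37 13 28, .fadd 11 13 5, .fadd 40 13 32, .fadd 39 0 25, .ofi 39, .ofi 46, .ofi 35, .ofi 20, .ofi 16, .ofi 43, .ofi 13, .ofi 9, .ofi 2, .ofi 23, .ofi 28, .ofi 5, .ofi 32, .ofi 25, .fadd 3 29 6] = true := by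
  decide +kernel

theorem check_B2 : checkA Cfsg.Lie.chevB2 [0, 1] [2] 1 5 (-2) u2
    [.opi 1]
    [.ofi 5, .fadd 5 6 7, .fadd 1 5 3, .ofi 6, .ofi 7, .fadd 1 2 0, .fadd 5 0 1] = true := by
  decide +kernel

theorem check_D4 : checkB Cfsg.Lie.chevD4 [0, 1, 2, 3] [4] 1 7 4 17 12 (2) u1
    [.opi 1, .oadd 18 1 6, .opi 6, .opi 18, .opi 14, .opi 19, .opi 23, .opi 22, .opi 5, .opi 17]
    [.ofi 4, .fadd 23 4 17, .fadd 22 0 9, .fadd 14 4 5, .fadd 14 0 1, .fadd 19 0 6, .fadd 19 17 23, .fadd 19 9 18, .fadd 19 5 14, .fadd 6 23 19, .fadd 18 17 22]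
    [.ofi 12, .fadd 23 3 16, .fadd 22 3 13, .fadd 14 12 15, .fadd 19 12 20, .fadd 19 3 11, .fadd 19 13 21, .fadd 6 12 7, .fadd 6 13 8, .fadd 6 15 10, .fadd 1 12 2] = true := by
  decide +kernel

theorem check_F4y : checkB Cfsg.Lie.chevF4 [0, 1, 2, 3] [14] 0 10 4 23 9 (2) u1
    [.opi 0, .opi 15, .opi 21, .opi 41, .opi 45, .oadd 46 0 23, .opi 23, .opi 46, .opi 47, .opi 42, .oadd 32 0 5, .opi 5, .opi 30, .opi 32, .oadd 26 23 25, .oadd 26 0 2, .oadd 43 0 16, .opi 16, .opi 2, .opi 25, .opi 26, .opi 43, .opi 17]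
    [.ofi 4, .fadd 4 16 0, .fadd 6 16 2, .fadd 24 16 17, .fadd 24 0 1, .fadd 22 16 15, .fadd 25 4 5, .fadd 26 4 6, .fadd 43 5 25, .fadd 43 6 26, .fadd 30 16 23, .fadd 30 15 21, .fadd 30 26 32, .fadd 32 21 30, .fadd 47 4 31, .fadd 47 16 43, .fadd 47 1 24, .fadd 47 15 42, .fadd 47 23 46, .fadd 47 21 45, .fadd 42 4 22, .fadd 42 23 41, .fadd 42 32 47]
    [.ofi 9, .fadd 31 9 14, .fadd 24 9 10, .fadd 22 9 8, .fadd 25 19 20, .fadd 43 14 39, .fadd 43 8 33, .fadd 5 19 3, .fadd 30 19 27, .fadd 30 20 28, .fadd 30 33 37, .fadd 32 19 29, .fadd 47 8 38, .fadd 42 28 44, .fadd 23 19 18, .fadd 9 19 7, .fadd 9 27 11, .fadd 9 29 13, .fadd 9 44 35, .fadd 31 7 12, .fadd 31 35 40, .fadd 43 12 36, .fadd 42 11 34] = true := by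
  decide +kernel

theorem check_B2c : checkC Cfsg.Lie.chevB2 [0, 1] [3] 0 1 3 0 (2) (1) (1) u1
    [.opi 0]
    [.ofi 3, .ofi 7, .ofi 4]
    [.ofi 1, .fadd 1 4 2, .fadd 7 2 6] = true := by
  decide +kernel

theorem check_G2c : checkC Cfsg.Lie.chevG2 [0, 1] [1, 6] 0 2 5 0 (-3) (1) (1) u1
    [.opi 0]
    [.ofi 5, .ofi 10, .ofi 11, .fadd 0 6 1, .fadd 5 1 0]
    [.ofi 2, .fadd 2 10 7, .fadd 11 3 9, .fadd 6 3 4, .fadd 6 7 8] = true := by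
  decide +kernel

end Cfsg.Agent.Lib.ChevAut.TwoGenData
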